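import Mathlib

/-!
# Multiple HNN extensions inside a semidirect product of a free group

Given an embedding `ρ : K →* Γ` and elements `σ i` conjugating `ρ(P i)` onto `ρ(Q i)`, let `E` be the
disjoint union of the coset spaces `Γ ⧸ ρ(Q i)`.  In `FreeGroup E ⋊ Γ` the elements
`t i = (e i, σ i)` and `ρ(K)` generate a group in which shortest expressions give reduced words.
Thus an element carrying elements of `K` into `K` is a product of the given maps, finite subgroups are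
conjugate into `K`, and the kernel of the map to `Γ` is free.
-/

set_option autoImplicit false

namespace CfsgLib.FusionFree

universe u

open scoped Classical
open FreeGroup (mk IsReduced freeGroupCongr freeGroupCongr_trans)

variable {K Γ I : Type u} [Group K] [Group Γ] (ρ : K →* Γ) (σ : I → Γ) (P Q : I → Subgroup K)

/-- The edges. -/
abbrev Edge : Type u := Σ i : I, Γ ⧸ (Q i).map ρ

/-- The action of `Γ` on edges. -/
def perm : Γ →* Equiv.Perm (Edge ρ Q) :=
  MonoidHom.mk' (fun γ => Equiv.sigmaCongrRight fun _ => MulAction.toPerm γ) fun a b => by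
    refine Equiv.ext fun e => ?_
    obtain ⟨i, c⟩ := e
    exact congrArg (Sigma.mk i) (mul_smul a b c)

/-- The action of `Γ` on the free group on the edges. -/
def autHom : Γ →* MulAut (FreeGroup (Edge ρ Q)) :=
  MonoidHom.mk' (fun γ => freeGroupCongr (perm ρ Q γ)) fun a b => by
    rw [map_mul]
    exact (freeGroupCongr_trans (perm ρ Q b) (perm ρ Q a)).symm

/-- The ambient group. -/
abbrev Amb : Type u := FreeGroup (Edge ρ Q) ⋊[autHom ρ Q] Γ

/-- The action on signed edges. -/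
def sh (γ : Γ) (a : Edge ρ Q × Bool) : Edge ρ Q × Bool := (perm ρ Q γ a.1, a.2)

theorem sh_mul (γ δ : Γ) (a : Edge ρ Q × Bool) : sh ρ Q (γ * δ) a = sh ρ Q γ (sh ρ Q δ a) := by
  simp [sh, map_mul]

theorem sh_one (a : Edge ρ Q × Bool) : sh ρ Q 1 a = a := by simp [sh]

theorem sh_injective (γ : Γ) : Function.Injective (sh ρ Q γ) := fun a b h => by
  have h1 := congrArg (sh ρ Q γ⁻¹) h
  rwa [← sh_mul, ← sh_mul, inv_mul_cancel, sh_one, sh_one] at h1

/-- The opposite signed edge. -/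
def opp (a : Edge ρ Q × Bool) : Edge ρ Q × Bool := (a.1, !a.2)

theorem sh_opp (γ : Γ) (a : Edge ρ Q × Bool) : sh ρ Q γ (opp ρ Q a) = opp ρ Q (sh ρ Q γ a) := rfl

theorem opp_injective : Function.Injective (opp ρ Q) := by
  rintro ⟨a, _ | _⟩ ⟨b, _ | _⟩ h <;> simp_all [opp]

theorem autHom_mk (γ : Γ) (L : List (Edge ρ Q × Bool)) :
    autHom ρ Q γ (mk L) = mk (L.map (sh ρ Q γ)) := rfl

theorem isReduced_map {γ : Γ} {L : List (Edge ρ Q × Bool)} (h : IsReduced L) :
    IsReduced (L.map (sh ρ Q γ)) := by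
  refine (List.isChain_map _).2 (List.IsChain.imp (fun a b hab e => ?_) h)
  exact hab ((perm ρ Q γ).injective e)

/-- The group element of a signed generator. -/
def trn : I × Bool → Γ
  | (i, true) => σ i
  | (i, false) => (σ i)⁻¹

/-- The signed edge of a signed generator. -/
def lett : I × Bool → Edge ρ Q × Bool
  | (i, true) => (⟨i, ((1 : Γ) : Γ ⧸ (Q i).map ρ)⟩, true)
  | (i, false) => (⟨i, (((σ i)⁻¹ : Γ) : Γ ⧸ (Q i).map ρ)⟩, false)

/-- The inverse generator. -/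
def rev (j : I × Bool) : I × Bool := (j.1, !j.2)

theorem sh_trn_lett_rev (j : I × Bool) :
    sh ρ Q (trn σ j) (lett ρ σ Q (rev j)) = opp ρ Q (lett ρ σ Q j) := by
  obtain ⟨i, _ | _⟩ := j
  · refine Prod.ext (congrArg (Sigma.mk i) ?_) rfl
    exact congrArg QuotientGroup.mk (mul_one (σ i)⁻¹)
  · refine Prod.ext (congrArg (Sigma.mk i) ?_) rfl
    exact congrArg QuotientGroup.mk (mul_inv_cancel (σ i))

/-- The elements of `K` fixing the signed edge. -/
def dom : I × Bool → Subgroup K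
  | (i, true) => Q i
  | (i, false) => P i

variable {ρ σ P Q}

/-- `σ i` conjugates `ρ(P i)` onto `ρ(Q i)`. -/
def Conjugates (ρ : K →* Γ) (σ : I → Γ) (P Q : I → Subgroup K) : Prop :=
  ∀ i, (∀ x ∈ P i, ∃ y ∈ Q i, σ i * ρ x * (σ i)⁻¹ = ρ y) ∧
    ∀ y ∈ Q i, ∃ x ∈ P i, σ i * ρ x * (σ i)⁻¹ = ρ y

theorem edge_eq_iff {i : I} {a b : Γ} {t : Bool} :
    (((⟨i, (a : Γ ⧸ (Q i).map ρ)⟩, t) : Edge ρ Q × Bool) = (⟨i, (b : Γ ⧸ (Q i).map ρ)⟩, t)) ↔
      b⁻¹ * a ∈ (Q i).map ρ := by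
  constructor
  · intro h
    exact QuotientGroup.eq.1 (eq_of_heq (Sigma.mk.inj (Prod.mk.inj h).1).2).symm
  · intro h
    rw [(QuotientGroup.eq (s := (Q i).map ρ)).2 h]

theorem lett_fixed_iff (hρ : Function.Injective ρ) (hc : Conjugates ρ σ P Q) (j : I × Bool)
    (b : K) : sh ρ Q (ρ b) (lett ρ σ Q j) = lett ρ σ Q j ↔ b ∈ dom P Q j := by
  obtain ⟨i, _ | _⟩ := j
  · refine edge_eq_iff.trans ?_
    show ((σ i)⁻¹)⁻¹ * (ρ b * (σ i)⁻¹) ∈ (Q i).map ρ ↔ b ∈ P i
    rw [show ((σ i)⁻¹)⁻¹ * (ρ b * (σ i)⁻¹) = σ i * ρ b * (σ i)⁻¹ by group]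
    constructor
    · rintro ⟨y, hy, e⟩
      obtain ⟨x, hx, e'⟩ := (hc i).2 y hy
      exact hρ (mul_left_cancel (mul_right_cancel (e'.trans e))) ▸ hx
    · intro hb
      obtain ⟨y, hy, e⟩ := (hc i).1 b hb
      exact ⟨y, hy, e.symm⟩
  · refine edge_eq_iff.trans ?_
    show (1 : Γ)⁻¹ * (ρ b * 1) ∈ (Q i).map ρ ↔ b ∈ Q i
    rw [mul_one, inv_one, one_mul]
    exact ⟨fun ⟨y, hy, e⟩ => hρ e ▸ hy, fun hb => ⟨b, hb, rfl⟩⟩

theorem exists_trn_eq (hc : Conjugates ρ σ P Q) {j : I × Bool} {b : K} (hb : b ∈ dom P Q j) :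
    ∃ a : K, trn σ j * ρ a = ρ b * trn σ j := by
  obtain ⟨i, _ | _⟩ := j
  · obtain ⟨y, -, e⟩ := (hc i).1 b hb
    refine ⟨y, ?_⟩
    show (σ i)⁻¹ * ρ y = ρ b * (σ i)⁻¹
    rw [← e]
    group
  · obtain ⟨x, -, e⟩ := (hc i).2 b hb
    refine ⟨x, ?_⟩
    show σ i * ρ x = ρ b * σ i
    rw [← e]
    group

variable (ρ σ Q)

/-- The copy of `K`. -/
def inK : K →* Amb ρ Q := SemidirectProduct.inr.comp ρ

/-- The stable letters and their inverses. -/
def T (j : I × Bool) : Amb ρ Q := ⟨mk [lett ρ σ Q j], trn σ j⟩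

theorem inK_left (s : K) : (inK ρ Q s).left = 1 := rfl

theorem inK_right (s : K) : (inK ρ Q s).right = ρ s := rfl

theorem T_mul_rev (j : I × Bool) : T ρ σ Q j * T ρ σ Q (rev j) = 1 := by
  refine SemidirectProduct.ext ?_ ?_
  · show mk [lett ρ σ Q j] * autHom ρ Q (trn σ j) (mk [lett ρ σ Q (rev j)]) = 1
    rw [autHom_mk, List.map_singleton, sh_trn_lett_rev,
      show mk [opp ρ Q (lett ρ σ Q j)] = (mk [lett ρ σ Q j])⁻¹ by rw [FreeGroup.inv_mk]; rfl, mul_inv_cancel]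
  · obtain ⟨i, _ | _⟩ := j
    · exact inv_mul_cancel (σ i)
    · exact mul_inv_cancel (σ i)

/-- The generated group. -/
def grp : Subgroup (Amb ρ Q) :=
  Subgroup.closure (Set.range (inK ρ Q) ∪ Set.range fun i => T ρ σ Q (i, true))

theorem inK_mem (s : K) : inK ρ Q s ∈ grp ρ σ Q := Subgroup.subset_closure (Or.inl ⟨s, rfl⟩)

theorem T_mem (j : I × Bool) : T ρ σ Q j ∈ grp ρ σ Q := by
  obtain ⟨i, _ | _⟩ := j
  · rw [eq_inv_of_mul_eq_one_left (a := T ρ σ Q (i, false)) (b := T ρ σ Q (i, true))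
      (T_mul_rev ρ σ Q (i, false))]
    exact Subgroup.inv_mem _ (Subgroup.subset_closure (Or.inr ⟨i, rfl⟩))
  · exact Subgroup.subset_closure (Or.inr ⟨i, rfl⟩)

/-- The value of an expression. -/
def val : List (K × (I × Bool)) → K → Amb ρ Q
  | [], z => inK ρ Q z
  | (s, j) :: L, z => inK ρ Q s * T ρ σ Q j * val L z

/-- The word of an expression. -/
def word : List (K × (I × Bool)) → List (Edge ρ Q × Bool)
  | [] => []
  | (s, j) :: L => sh ρ Q (ρ s) (lett ρ σ Q j) :: (word L).map (sh ρ Q (ρ s * trn σ j))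

theorem word_length (L : List (K × (I × Bool))) : (word ρ σ Q L).length = L.length := by
  induction L with
  | nil => rfl
  | cons a L ih => simp [word, ih]

theorem val_left (L : List (K × (I × Bool))) (z : K) :
    (val ρ σ Q L z).left = mk (word ρ σ Q L) := by
  induction L with
  | nil => rfl
  | cons a L ih =>
    obtain ⟨s, j⟩ := a
    show 1 * autHom ρ Q (ρ s) (mk [lett ρ σ Q j]) *
      autHom ρ Q (ρ s * trn σ j) (val ρ σ Q L z).left = _
    rw [ih, one_mul, autHom_mk, autHom_mk, FreeGroup.mul_mk]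
    rfl

theorem val_mem (L : List (K × (I × Bool))) (z : K) : val ρ σ Q L z ∈ grp ρ σ Q := by
  induction L with
  | nil => exact inK_mem ρ σ Q z
  | cons a L ih => exact mul_mem (mul_mem (inK_mem ρ σ Q _) (T_mem ρ σ Q _)) ih

theorem exists_absorb (c : K) (L : List (K × (I × Bool))) (z : K) :
    ∃ L' z', L'.length = L.length ∧ val ρ σ Q L' z' = inK ρ Q c * val ρ σ Q L z := by
  cases L with
  | nil => exact ⟨[], c * z, rfl, map_mul _ _ _⟩
  | cons a L =>
    refine ⟨(c * a.1, a.2) :: L, z, rfl, ?_⟩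
    show inK ρ Q (c * a.1) * _ * _ = inK ρ Q c * (inK ρ Q a.1 * _ * _)
    rw [map_mul]
    simp only [mul_assoc]

theorem exists_val {g : Amb ρ Q} (hg : g ∈ grp ρ σ Q) : ∃ L z, val ρ σ Q L z = g := by
  induction hg using Subgroup.closure_induction_left with
  | one => exact ⟨[], 1, map_one _⟩
  | mul_left x hx y _ ih =>
    obtain ⟨L, z, rfl⟩ := ih
    rcases hx with ⟨s, rfl⟩ | ⟨i, rfl⟩
    · obtain ⟨L', z', -, h⟩ := exists_absorb ρ σ Q s L z
      exact ⟨L', z', h⟩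
    · refine ⟨(1, (i, true)) :: L, z, ?_⟩
      show inK ρ Q 1 * _ * _ = _
      rw [map_one, one_mul]
  | inv_mul_cancel x hx y _ ih =>
    obtain ⟨L, z, rfl⟩ := ih
    rcases hx with ⟨s, rfl⟩ | ⟨i, rfl⟩
    · obtain ⟨L', z', -, h⟩ := exists_absorb ρ σ Q s⁻¹ L z
      exact ⟨L', z', h.trans (by rw [map_inv])⟩
    · refine ⟨(1, (i, false)) :: L, z, ?_⟩
      show inK ρ Q 1 * T ρ σ Q (i, false) * _ = _
      rw [map_one, one_mul, eq_inv_of_mul_eq_one_left (a := T ρ σ Q (i, false))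
        (b := T ρ σ Q (i, true)) (T_mul_rev ρ σ Q (i, false))]

variable {ρ σ Q}

theorem T_mul_inK (hρ : Function.Injective ρ) (hc : Conjugates ρ σ P Q) {j : I × Bool} {a b : K}
    (hb : b ∈ dom P Q j) (h : trn σ j * ρ a = ρ b * trn σ j) :
    T ρ σ Q j * inK ρ Q a = inK ρ Q b * T ρ σ Q j := by
  refine SemidirectProduct.ext ?_ h
  show mk [lett ρ σ Q j] * autHom ρ Q (trn σ j) 1 = 1 * autHom ρ Q (ρ b) (mk [lett ρ σ Q j])
  rw [map_one, mul_one, one_mul, autHom_mk, List.map_singleton, (lett_fixed_iff hρ hc j b).2 hb]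

theorem shorten (hρ : Function.Injective ρ) (hc : Conjugates ρ σ P Q) {s s' : K} {j j' : I × Bool}
    (h : sh ρ Q (ρ s * trn σ j) (sh ρ Q (ρ s') (lett ρ σ Q j')) =
      opp ρ Q (sh ρ Q (ρ s) (lett ρ σ Q j)))
    (L : List (K × (I × Bool))) (z : K) :
    ∃ L' z', L'.length = L.length ∧ val ρ σ Q L' z' = val ρ σ Q ((s, j) :: (s', j') :: L) z := by
  have hj : j' = rev j := by
    have h1 := congrArg (fun a : Edge ρ Q × Bool => a.1.1) h
    have h2 := congrArg Prod.snd h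
    obtain ⟨i, _ | _⟩ := j <;> obtain ⟨i', _ | _⟩ := j'
    · exact absurd h2 Bool.false_ne_true
    · exact Prod.ext (show i' = i from h1) rfl
    · exact Prod.ext (show i' = i from h1) rfl
    · exact absurd h2.symm Bool.false_ne_true
  subst hj
  have h3 : sh ρ Q (trn σ j) (sh ρ Q (ρ s') (lett ρ σ Q (rev j))) =
      sh ρ Q (trn σ j) (lett ρ σ Q (rev j)) := by
    rw [sh_trn_lett_rev]
    exact sh_injective ρ Q (ρ s) (by rw [← sh_mul, h, sh_opp])
  have h' := (lett_fixed_iff hρ hc (rev j) s').1 (sh_injective ρ Q _ h3)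
  obtain ⟨a, ha⟩ := exists_trn_eq hc h'
  obtain ⟨L', z', hl, hv⟩ := exists_absorb ρ σ Q (s * a) L z
  refine ⟨L', z', hl, hv.trans ?_⟩
  show _ = inK ρ Q s * T ρ σ Q j * (inK ρ Q s' * T ρ σ Q (rev j) * val ρ σ Q L z)
  rw [← T_mul_inK hρ hc h' ha, map_mul]
  simp only [mul_assoc]
  rw [← mul_assoc (T ρ σ Q j), T_mul_rev, one_mul]

theorem isReduced_word_of_minimal (hρ : Function.Injective ρ) (hc : Conjugates ρ σ P Q) :
    ∀ (L : List (K × (I × Bool))) (z : K),
      (∀ L' z', val ρ σ Q L' z' = val ρ σ Q L z → L.length ≤ L'.length) →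
      IsReduced (word ρ σ Q L) := by
  intro L
  induction L with
  | nil => exact fun _ _ => FreeGroup.IsReduced.nil
  | cons a L ih =>
    intro z hmin
    obtain ⟨s, j⟩ := a
    have htail := ih z fun L' z' h => by
      have := hmin ((s, j) :: L') z' (by show _ * val ρ σ Q L' z' = _ * val ρ σ Q L z; rw [h])
      simpa using this
    cases L with
    | nil => exact FreeGroup.IsReduced.singleton
    | cons b L =>
      obtain ⟨s', j'⟩ := b
      refine FreeGroup.isReduced_cons_cons.2 ⟨fun e => ?_, isReduced_map ρ Q htail⟩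
      by_contra hne
      have key : sh ρ Q (ρ s * trn σ j) (sh ρ Q (ρ s') (lett ρ σ Q j')) =
          opp ρ Q (sh ρ Q (ρ s) (lett ρ σ Q j)) :=
        Prod.ext e.symm (Bool.eq_not.2 fun h => hne h.symm)
      obtain ⟨L', z', hl, hv⟩ := shorten hρ hc key L z
      have := hmin L' z' hv
      rw [hl] at this
      simp at this

/-- The normal form. -/
theorem normal_form (hρ : Function.Injective ρ) (hc : Conjugates ρ σ P Q) {g : Amb ρ Q}
    (hg : g ∈ grp ρ σ Q) :
    ∃ L z, val ρ σ Q L z = g ∧ IsReduced (word ρ σ Q L) ∧ g.left.toWord = word ρ σ Q L := by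
  classical
  have hex : ∃ n, ∃ L z, L.length = n ∧ val ρ σ Q L z = g := by
    obtain ⟨L, z, h⟩ := exists_val ρ σ Q hg
    exact ⟨_, L, z, rfl, h⟩
  obtain ⟨L, z, hl, hv⟩ := Nat.find_spec hex
  have hr := isReduced_word_of_minimal hρ hc L z fun L' z' h =>
    hl ▸ Nat.find_min' hex ⟨L', z', rfl, h.trans hv⟩
  exact ⟨L, z, hv, hr, by rw [← hv, val_left, FreeGroup.toWord_mk, hr.reduce_eq]⟩

end CfsgLib.FusionFree
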