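import Cfsg.Agent.FusionFree.Basic

/-!
# Properties of the multiple HNN extension: transporters, finite subgroups, free kernel
-/

set_option autoImplicit false

namespace CfsgLib.FusionFree

universe u

open scoped Classical
open FreeGroup (mk IsReduced)

variable {K Γ I : Type u} [Group K] [Group Γ] {ρ : K →* Γ} {σ : I → Γ} {P Q : I → Subgroup K}

theorem isReduced_of_map {γ : Γ} {L : List (Edge ρ Q × Bool)}
    (h : IsReduced (L.map (sh ρ Q γ))) : IsReduced L := by
  have h1 := isReduced_map ρ Q (γ := γ⁻¹) h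
  rw [List.map_map] at h1
  have e : sh ρ Q γ⁻¹ ∘ sh ρ Q γ = id := funext fun a => by
    show sh ρ Q γ⁻¹ (sh ρ Q γ a) = a
    rw [← sh_mul, inv_mul_cancel, sh_one]
  rwa [e, List.map_id] at h1

theorem toWord_autHom (γ : Γ) (x : FreeGroup (Edge ρ Q)) :
    (autHom ρ Q γ x).toWord = x.toWord.map (sh ρ Q γ) := by
  conv_lhs => rw [← FreeGroup.mk_toWord (x := x)]
  rw [autHom_mk, FreeGroup.toWord_mk, (isReduced_map ρ Q FreeGroup.isReduced_toWord).reduce_eq]

/-- One step along a reduced expression carrying an element of `K` into `K`. -/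
theorem step (hρ : Function.Injective ρ) (hc : Conjugates ρ σ P Q) {s : K} {j : I × Bool}
    {L : List (K × (I × Bool))} {z a c : K} (hr : IsReduced (word ρ σ Q ((s, j) :: L)))
    (h : val ρ σ Q ((s, j) :: L) z * inK ρ Q a = inK ρ Q c * val ρ σ Q ((s, j) :: L) z) :
    s⁻¹ * c * s ∈ dom P Q j ∧ IsReduced (word ρ σ Q L) ∧
      ∃ a' : K, trn σ j * ρ a' = ρ (s⁻¹ * c * s) * trn σ j ∧
        val ρ σ Q L z * inK ρ Q a = inK ρ Q a' * val ρ σ Q L z := by
  have h1 := congrArg SemidirectProduct.left h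
  rw [SemidirectProduct.mul_left, SemidirectProduct.mul_left, inK_left, inK_left, inK_right,
    map_one, mul_one, one_mul, val_left] at h1
  have h2 := congrArg FreeGroup.toWord h1
  rw [toWord_autHom, FreeGroup.toWord_mk, hr.reduce_eq] at h2
  have h3 : sh ρ Q (ρ c) (sh ρ Q (ρ s) (lett ρ σ Q j)) = sh ρ Q (ρ s) (lett ρ σ Q j) := by
    simpa [word] using (congrArg List.head? h2).symm
  have hd : s⁻¹ * c * s ∈ dom P Q j := by
    refine (lett_fixed_iff hρ hc j _).1 (sh_injective ρ Q (ρ s) ?_)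
    rw [← sh_mul, ← map_mul, show s * (s⁻¹ * c * s) = c * s by group, map_mul, sh_mul, h3]
  obtain ⟨a', ha'⟩ := exists_trn_eq hc hd
  refine ⟨hd, isReduced_of_map (List.IsChain.tail hr), a', ha', ?_⟩
  have h4 := T_mul_inK hρ hc hd ha'
  refine mul_left_cancel (a := inK ρ Q s * T ρ σ Q j) ?_
  rw [mul_assoc (inK ρ Q s) (T ρ σ Q j) (inK ρ Q a' * _), ← mul_assoc (T ρ σ Q j), h4, ← mul_assoc,
    ← mul_assoc, ← mul_assoc, ← map_mul, show s * (s⁻¹ * c * s) = c * s by group, map_mul]
  simpa [val, mul_assoc] using h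

theorem isOfFinOrder_of_mem {G : Type*} [Group G] {H : Subgroup G} [Finite H] {v : G}
    (hv : v ∈ H) : IsOfFinOrder v :=
  (Submonoid.isOfFinOrder_coe (x := (⟨v, hv⟩ : H.toSubmonoid))).2 (isOfFinOrder_of_finite (⟨v, hv⟩ : H))

theorem toWord_mul_of_reduced {x y : Amb ρ Q}
    (h : ∀ b ∈ x.left.toWord.getLast?, ∀ d ∈ y.left.toWord.head?,
      sh ρ Q x.right d ≠ opp ρ Q b) :
    (x * y).left.toWord = x.left.toWord ++ y.left.toWord.map (sh ρ Q x.right) := by
  rw [SemidirectProduct.mul_left, FreeGroup.toWord_mul, toWord_autHom]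
  refine FreeGroup.IsReduced.reduce_eq ?_
  refine List.isChain_append.2 ⟨FreeGroup.isReduced_toWord,
    isReduced_map ρ Q FreeGroup.isReduced_toWord, fun b hb d hd e => ?_⟩
  rw [List.head?_map, Option.mem_def, Option.map_eq_some_iff] at hd
  obtain ⟨d', hd', rfl⟩ := hd
  by_contra hne
  exact h b hb d' hd' (Prod.ext e.symm (Bool.eq_not.2 fun e' => hne e'.symm))

/-- The ends of a nonempty word of an element of finite order match. -/
theorem last_of_finOrder {x : Amb ρ Q} (hx : IsOfFinOrder x) {a b : Edge ρ Q × Bool}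
    (ha : x.left.toWord.head? = some a) (hb : x.left.toWord.getLast? = some b) :
    b = opp ρ Q (sh ρ Q x.right a) := by
  by_contra hne
  have key : ∀ n : ℕ, (x ^ (n + 1)).left.toWord.head? = some a ∧
      (x ^ (n + 1)).left.toWord ≠ [] := by
    intro n
    induction n with
    | zero => rw [zero_add, pow_one]; exact ⟨ha, fun e => by rw [e] at ha; simp at ha⟩
    | succ n ih =>
      rw [pow_succ', toWord_mul_of_reduced]
      · refine ⟨by rw [List.head?_append, ha]; rfl, fun e => ?_⟩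
        rw [List.append_eq_nil_iff] at e
        exact ih.2 (List.map_eq_nil_iff.1 e.2)
      · intro b' hb' d hd
        rw [Option.mem_def, hb, Option.some.injEq] at hb'
        rw [Option.mem_def, ih.1, Option.some.injEq] at hd
        subst hb' hd
        intro e
        refine hne ?_
        rw [e]
        exact (Prod.ext rfl (Bool.not_not _).symm)
  obtain ⟨n, hn, hxn⟩ := isOfFinOrder_iff_pow_eq_one.1 hx
  obtain ⟨m, rfl⟩ := Nat.exists_eq_add_of_le' hn
  exact (key m).2 (by rw [hxn]; rfl)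

/-- All nontrivial words of a finite subgroup begin with the same signed edge, fixed by the rest. -/
theorem same_head {H : Subgroup (Amb ρ Q)} [Finite H] {x y : Amb ρ Q} (hx : x ∈ H) (hy : y ∈ H)
    {a : Edge ρ Q × Bool} (ha : x.left.toWord.head? = some a) :
    (∀ b, y.left.toWord.head? = some b → b = a) ∧
      (y.left.toWord = [] → sh ρ Q y.right a = a) := by
  have hfin : ∀ {v : Amb ρ Q}, v ∈ H → IsOfFinOrder v := isOfFinOrder_of_mem
  refine ⟨fun b hb => ?_, fun hy0 => ?_⟩
  · by_contra hne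
    obtain ⟨l, hl⟩ : ∃ l, y.left.toWord.getLast? = some l :=
      Option.isSome_iff_exists.1 (by
        rw [List.getLast?_isSome]; intro e; rw [e] at hb; simp at hb)
    obtain ⟨k, hk⟩ : ∃ k, x.left.toWord.getLast? = some k :=
      Option.isSome_iff_exists.1 (by
        rw [List.getLast?_isSome]; intro e; rw [e] at ha; simp at ha)
    have hl' := last_of_finOrder (hfin hy) hb hl
    have hk' := last_of_finOrder (hfin hx) ha hk
    have hw := toWord_mul_of_reduced (x := x) (y := y) (fun b' hb' d hd => by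
      rw [Option.mem_def, hk, Option.some.injEq] at hb'
      rw [Option.mem_def, hb, Option.some.injEq] at hd
      subst hb' hd
      rw [hk']
      intro e
      exact hne (sh_injective ρ Q x.right (e.trans (Prod.ext rfl (Bool.not_not _)))))
    have h1 : (x * y).left.toWord.head? = some a := by rw [hw, List.head?_append, ha]; rfl
    have h2 : (x * y).left.toWord.getLast? = some (sh ρ Q x.right l) := by
      rw [hw, List.getLast?_append, List.getLast?_map, hl]; rfl
    have h3 := last_of_finOrder (hfin (mul_mem hx hy)) h1 h2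
    rw [hl', sh_opp, ← sh_mul, SemidirectProduct.mul_right] at h3
    exact hne (sh_injective ρ Q _ (opp_injective ρ Q h3))
  · obtain ⟨k, hk⟩ : ∃ k, x.left.toWord.getLast? = some k :=
      Option.isSome_iff_exists.1 (by
        rw [List.getLast?_isSome]; intro e; rw [e] at ha; simp at ha)
    have hw : (y * x).left.toWord = x.left.toWord.map (sh ρ Q y.right) := by
      rw [toWord_mul_of_reduced (fun b hb => by simp [hy0] at hb), hy0, List.nil_append]
    have h1 : (y * x).left.toWord.head? = some (sh ρ Q y.right a) := by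
      rw [hw, List.head?_map, ha]; rfl
    have h2 : (y * x).left.toWord.getLast? = some (sh ρ Q y.right k) := by
      rw [hw, List.getLast?_map, hk]; rfl
    have h3 := last_of_finOrder (hfin (mul_mem hy hx)) h1 h2
    rw [last_of_finOrder (hfin hx) ha hk, sh_opp, ← sh_mul, SemidirectProduct.mul_right] at h3
    exact (sh_injective ρ Q _ (opp_injective ρ Q h3)).symm

theorem norm_conj_lt {H : Subgroup (Amb ρ Q)} [Finite H] {x : Amb ρ Q} (hx : x ∈ H)
    {c : Amb ρ Q} {a : Edge ρ Q × Bool} (hc : c.left = mk [a])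
    (ha : ∀ b, x.left.toWord.head? = some b → b = a)
    (h0 : x.left.toWord = [] → sh ρ Q x.right a = a) :
    (c⁻¹ * x * c).left.norm ≤ x.left.norm ∧
      (x.left.toWord ≠ [] → (c⁻¹ * x * c).left.norm < x.left.norm) := by
  have hleft : (c⁻¹ * x * c).left =
      autHom ρ Q c.right⁻¹ ((mk [a])⁻¹ * x.left * mk [sh ρ Q x.right a]) := by
    simp only [SemidirectProduct.mul_left, SemidirectProduct.inv_left, SemidirectProduct.mul_right,
      SemidirectProduct.inv_right, hc, map_mul, MulAut.mul_apply]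
    rw [autHom_mk ρ Q x.right, List.map_singleton]
  have hnorm : ∀ (γ : Γ) (v : FreeGroup (Edge ρ Q)), (autHom ρ Q γ v).norm = v.norm := fun γ v => by
    simp [FreeGroup.norm, toWord_autHom]
  rw [hleft, hnorm]
  rcases hw : x.left.toWord with - | ⟨b, w⟩
  · refine ⟨?_, fun h => absurd rfl h⟩
    rw [FreeGroup.toWord_eq_nil_iff.1 hw, h0 hw, mul_one, inv_mul_cancel]
  · obtain rfl : b = a := ha b (by rw [hw]; rfl)
    obtain ⟨l, hl⟩ : ∃ l, (b :: w).getLast? = some l :=
      Option.isSome_iff_exists.1 (by simp)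
    have hfin : IsOfFinOrder x := isOfFinOrder_of_mem hx
    have hl' := last_of_finOrder hfin (by rw [hw]; rfl) (hw ▸ hl)
    have hw0 : w ≠ [] := by
      rintro rfl
      have e : b = opp ρ Q (sh ρ Q x.right b) := by
        rw [← hl']
        simpa using hl
      exact Bool.not_ne_self b.2 (congrArg Prod.snd e).symm
    obtain ⟨m, hm⟩ : ∃ m, w = m ++ [l] := by
      refine ⟨w.dropLast, ?_⟩
      rw [List.getLast?_cons, List.getLast?_eq_some_getLast hw0] at hl
      obtain rfl := Option.some.inj hl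
      exact (List.dropLast_append_getLast hw0).symm
    have hxl : x.left = mk [b] * mk m * mk [l] := by
      rw [← FreeGroup.mk_toWord (x := x.left), hw, hm, FreeGroup.mul_mk, FreeGroup.mul_mk]
      rfl
    have hkey : ((mk [b])⁻¹ * x.left * mk [sh ρ Q x.right b]).norm < x.left.norm := by
      have e : mk [l] * mk [sh ρ Q x.right b] = 1 := by
        rw [show mk [l] = (mk [sh ρ Q x.right b])⁻¹ by rw [hl', FreeGroup.inv_mk]; rfl,
          inv_mul_cancel]
      rw [show (mk [b])⁻¹ * x.left * mk [sh ρ Q x.right b] = mk m by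
        rw [hxl, mul_assoc (mk [b]) (mk m), inv_mul_cancel_left, mul_assoc, e, mul_one]]
      refine lt_of_le_of_lt (FreeGroup.norm_mk_le) ?_
      show m.length < x.left.toWord.length
      rw [hw, hm, List.length_cons, List.length_append]
      omega
    exact ⟨hkey.le, fun _ => hkey⟩

/-- A finite subgroup of the generated group is conjugate into `K`. -/
theorem exists_conj_mem (hρ : Function.Injective ρ) (hc : Conjugates ρ σ P Q)
    (H : Subgroup (Amb ρ Q)) [Finite H] (hH : H ≤ grp ρ σ Q) :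
    ∃ g ∈ grp ρ σ Q, ∀ h ∈ H, g * h * g⁻¹ ∈ (inK ρ Q).range := by
  let N : Subgroup (Amb ρ Q) → ℕ := fun H => ∑ᶠ h : H, (h : Amb ρ Q).left.norm
  suffices ∀ n, ∀ H : Subgroup (Amb ρ Q), Finite H → H ≤ grp ρ σ Q → N H = n →
      ∃ g ∈ grp ρ σ Q, ∀ h ∈ H, g * h * g⁻¹ ∈ (inK ρ Q).range from this _ H ‹_› hH rfl
  intro n
  induction n using Nat.strong_induction_on with
  | _ n ih =>
  intro H _ hH hn
  by_cases h0 : ∀ h ∈ H, h.left.toWord = []
  · refine ⟨1, Subgroup.one_mem _, fun h hh => ?_⟩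
    obtain ⟨L, z, hv, -, hw⟩ := normal_form hρ hc (hH hh)
    rw [h0 h hh] at hw
    have hL : L = [] := List.length_eq_zero_iff.1 (by rw [← word_length ρ σ Q L, ← hw]; rfl)
    subst hL
    rw [inv_one, one_mul, mul_one]
    exact ⟨z, hv⟩
  push Not at h0
  obtain ⟨x, hx, hx0⟩ := h0
  obtain ⟨L, z, -, -, hw⟩ := normal_form hρ hc (hH hx)
  rcases L with - | ⟨⟨s, j⟩, L⟩
  · exact absurd hw hx0
  obtain ⟨c, hcg, hcl⟩ : ∃ c ∈ grp ρ σ Q, c.left = mk [sh ρ Q (ρ s) (lett ρ σ Q j)] := by
    refine ⟨inK ρ Q s * T ρ σ Q j, mul_mem (inK_mem ρ σ Q s) (T_mem ρ σ Q j), ?_⟩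
    show 1 * autHom ρ Q (ρ s) (mk [lett ρ σ Q j]) = _
    rw [one_mul, autHom_mk, List.map_singleton]
  have ha : x.left.toWord.head? = some (sh ρ Q (ρ s) (lett ρ σ Q j)) := by rw [hw]; rfl
  let H' := H.map (MulAut.conj c⁻¹).toMonoidHom
  haveI : Finite H' := Finite.of_equiv _ (H.equivMapOfInjective _ (MulEquiv.injective _)).toEquiv
  have hH' : H' ≤ grp ρ σ Q := by
    rintro _ ⟨h, hh, rfl⟩
    show c⁻¹ * h * c⁻¹⁻¹ ∈ _
    rw [inv_inv]
    exact mul_mem (mul_mem (Subgroup.inv_mem _ hcg) (hH hh)) hcg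
  have hlt : N H' < n := by
    rw [← hn]
    show ∑ᶠ h : H', (h : Amb ρ Q).left.norm < _
    rw [← finsum_comp_equiv (H.equivMapOfInjective _ (MulEquiv.injective _)).toEquiv]
    show ∑ᶠ h : H, (c⁻¹ * (h : Amb ρ Q) * c⁻¹⁻¹).left.norm < ∑ᶠ h : H, (h : Amb ρ Q).left.norm
    rw [inv_inv]
    haveI := Fintype.ofFinite H
    rw [finsum_eq_sum_of_fintype, finsum_eq_sum_of_fintype]
    refine Finset.sum_lt_sum (fun h _ => ?_) ⟨⟨x, hx⟩, Finset.mem_univ _, ?_⟩
    · exact (norm_conj_lt h.2 hcl (same_head hx h.2 ha).1 (same_head hx h.2 ha).2).1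
    · exact (norm_conj_lt hx hcl (same_head hx hx ha).1 (same_head hx hx ha).2).2 hx0
  obtain ⟨g, hg, hgH⟩ := ih _ hlt H' ‹_› hH' rfl
  refine ⟨g * c⁻¹, mul_mem hg (Subgroup.inv_mem _ hcg), fun h hh => ?_⟩
  have := hgH _ ⟨h, hh, rfl⟩
  simpa [mul_assoc] using this

/-- The kernel of the map to `Γ` is free. -/
theorem isFreeGroup_ker :
    IsFreeGroup (SemidirectProduct.rightHom.comp (grp ρ σ Q).subtype).ker := by
  let N := (SemidirectProduct.rightHom.comp (grp ρ σ Q).subtype).ker
  have hN : ∀ x : N, ((x : grp ρ σ Q) : Amb ρ Q).right = 1 := fun x => x.2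
  let f : N →* FreeGroup (Edge ρ Q) :=
    MonoidHom.mk' (fun x => ((x : grp ρ σ Q) : Amb ρ Q).left) fun x y => by
      show _ * autHom ρ Q _ _ = _
      rw [hN x, map_one]
      rfl
  have hf : Function.Injective f := fun x y h =>
    Subtype.ext (Subtype.ext (SemidirectProduct.ext h ((hN x).trans (hN y).symm)))
  haveI : IsFreeGroup f.range := subgroupIsFreeOfIsFree _
  exact IsFreeGroup.ofMulEquiv (MonoidHom.ofInjective hf).symm

end CfsgLib.FusionFree
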